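import Groth.Agent.PerfMorLib.Poly
import Groth.Agent.PCHomLib.Descend

/-!
# Perfect morphisms
-/

set_option autoImplicit false
set_option linter.style.haveILetI false
set_option linter.unusedVariables false
set_option backward.isDefEq.respectTransparency false

universe u

open CategoryTheory Limits AlgebraicGeometry TensorProduct
attribute [local instance] HasDerivedCategory.standard

noncomputable section

namespace Groth.Agent.PerfMorLib

open Groth.Agent.DRingLib Groth.Agent.PCHomLib

variable {A B C : Type u} [CommRing A] [CommRing B] [CommRing C]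

/-- A perfect ring map. -/
def PerfHom (f : A →+* B) : Prop := PCHom f ∧ TD f

theorem isPerfectHom_iff [Algebra A B] : MoreMor.IsPerfectHom A B ↔ PerfHom (algebraMap A B) :=
  and_congr isPseudoCoherentHom_iff hasFiniteTorDim_iff

theorem PerfHom.comp {f : A →+* B} {g : B →+* C} (hf : PerfHom f) (hg : PerfHom g) : PerfHom (g.comp f) :=
  ⟨hf.1.comp hg.1, hf.2.comp hg.2⟩

theorem td_away {L : Type u} [CommRing L] [Algebra A L] (r : A) [IsLocalization.Away r L] :
    TD (algebraMap A L) := by
  haveI : Module.Flat A L := IsLocalization.flat L (Submonoid.powers r)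
  exact td_of_flat ((RingHom.flat_algebraMap_iff).mpr inferInstance)

theorem perfHom_away {L : Type u} [CommRing L] [Algebra A L] (r : A) [IsLocalization.Away r L] :
    PerfHom (algebraMap A L) := ⟨pcHom_away L r, td_away r⟩

theorem perfHom_of_bijective {f : A →+* B} (hf : Function.Bijective f) : PerfHom f :=
  ⟨pcHom_of_bijective f hf, td_of_bijective hf⟩

theorem perfHom_sourceAway : RingHom.StableUnderCompositionWithLocalizationAwaySource
    (fun {R S : Type u} [CommRing R] [CommRing S] (f : R →+* S) => PerfHom f) :=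
  fun R S T _ _ _ _ r _ f hf => (perfHom_away r).comp hf

theorem perfHom_ofLocalizationSpanTarget :
    RingHom.OfLocalizationSpanTarget
      (fun {R S : Type u} [CommRing R] [CommRing S] (f : R →+* S) => PerfHom f) :=
  fun R S _ _ f s hs h => ⟨pcHom_ofLocalizationSpanTarget f s hs fun r => (h r).1,
    td_ofLocalizationSpanTarget f s hs fun r => (h r).2⟩

/-- Perfectness of ring maps is a local property. -/
theorem perfHom_isLocal :
    RingHom.PropertyIsLocal (fun {R S : Type u} [CommRing R] [CommRing S] (f : R →+* S) => PerfHom f) := by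
  have hsrc := perfHom_sourceAway.{u}
  refine ⟨fun R S _ _ f r R' S' _ _ _ _ _ _ hf => ?_, perfHom_ofLocalizationSpanTarget,
    perfHom_ofLocalizationSpanTarget.ofLocalizationSpan hsrc,
    fun R S T _ _ _ _ s _ f hf => hf.comp (perfHom_away s)⟩
  refine ⟨pcHom_isLocal.localizationAwayPreserves f r R' S' hf.1, ?_⟩
  letI := f.toAlgebra
  letI := (IsLocalization.Away.map R' S' f r).toAlgebra
  letI : Algebra R S' := ((algebraMap S S').comp f).toAlgebra
  haveI : IsScalarTower R S S' := .of_algebraMap_eq fun _ => rfl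
  haveI : IsScalarTower R R' S' := .of_algebraMap_eq fun x => by
    show algebraMap S S' (f x) = IsLocalization.Away.map R' S' f r (algebraMap R R' x)
    rw [IsLocalization.Away.map, IsLocalization.map_eq]
  haveI : IsLocalization (Algebra.algebraMapSubmonoid S (Submonoid.powers r)) S' := by
    rw [Algebra.algebraMapSubmonoid_powers]
    exact inferInstanceAs (IsLocalization.Away (f r) S')
  haveI : Algebra.IsPushout R R' S S' :=
    (Algebra.isPushout_of_isLocalization (Submonoid.powers r) R' S S').symm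
  haveI : Module.Flat R R' := IsLocalization.flat R' (Submonoid.powers r)
  exact td_of_isPushout (R := R) (R' := R') (S := S) (S' := S') hf.2

/-- Perfectness of morphisms is a property of ring maps on affine opens. -/
instance hasRingHomProperty_isPerfectMor :
    HasRingHomProperty (fun {X Y : Scheme.{u}} (f : X ⟶ Y) => MoreMor.IsPerfectMor f)
      (fun {R S : Type u} [CommRing R] [CommRing S] (f : R →+* S) => PerfHom f) where
  isLocal_ringHomProperty := perfHom_isLocal
  eq_affineLocally' := by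
    ext X Y f
    rw [affineLocally_iff_forall_isAffineOpen]
    refine ⟨fun h U hU V hV e => ?_, fun h U V hU hV e => ?_⟩
    · letI := (f.appLE U V e).hom.toAlgebra
      exact isPerfectHom_iff.mp (h V U hV hU e)
    · letI := (f.appLE V U e).hom.toAlgebra
      exact isPerfectHom_iff.mpr (h hV hU e)

/-- The perfect morphisms. -/
abbrev perfectMor : MorphismProperty Scheme.{u} :=
  fun {X Y : Scheme.{u}} (f : X ⟶ Y) => MoreMor.IsPerfectMor f

theorem isPerfectMor_iff_exists {X Y : Scheme.{u}} (f : X ⟶ Y) :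
    MoreMor.IsPerfectMor f ↔ ∀ x : X, ∃ (V : Y.affineOpens) (U : X.affineOpens) (_ : x ∈ U.1)
      (e : U.1 ≤ f ⁻¹ᵁ V.1), PerfHom (f.appLE V U e).hom :=
  HasRingHomProperty.iff_exists_appLE (P := perfectMor) perfHom_sourceAway

theorem isPerfectMor_comp {X Y Z : Scheme.{u}} {f : X ⟶ Y} {g : Y ⟶ Z} (hf : MoreMor.IsPerfectMor f)
    (hg : MoreMor.IsPerfectMor g) : MoreMor.IsPerfectMor (f ≫ g) :=
  (HasRingHomProperty.stableUnderComposition (P := perfectMor)
    (fun _ _ _ _ _ _ _ _ hf hg => PerfHom.comp hf hg)).comp_mem f g hf hg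

theorem isPerfectMor_of_flat_baseChange {X S X' S' : Scheme.{u}} {f : X ⟶ S}
    {f' : X' ⟶ S'} {g' : X' ⟶ X} {g : S' ⟶ S} [Flat g] (hc : IsPullback g' f' f g)
    (hf : MoreMor.IsPerfectMor f) : MoreMor.IsPerfectMor f' := by
  rw [isPerfectMor_iff_exists]
  intro x
  obtain ⟨V, W, V', hV, hW, hV', e, e', hxW, hxV'⟩ := PullbackMod.exists_affines hc x
  obtain ⟨hW', hpo⟩ := PullbackMod.isPushout_appLE hc hV hW hV' e e'
  refine ⟨⟨V', hV'⟩, ⟨g' ⁻¹ᵁ W ⊓ f' ⁻¹ᵁ V', hW'⟩, ⟨hxW, hxV'⟩, inf_le_right, ?_⟩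
  let W' := g' ⁻¹ᵁ W ⊓ f' ⁻¹ᵁ V'
  letI : Algebra Γ(S, V) Γ(X, W) := (f.appLE V W e).hom.toAlgebra
  letI : Algebra Γ(S, V) Γ(S', V') := (g.appLE V V' e').hom.toAlgebra
  letI : Algebra Γ(X, W) Γ(X', W') := (g'.appLE W W' inf_le_left).hom.toAlgebra
  letI : Algebra Γ(S', V') Γ(X', W') := (f'.appLE V' W' inf_le_right).hom.toAlgebra
  letI : Algebra Γ(S, V) Γ(X', W') :=
    ((g'.appLE W W' inf_le_left).hom.comp (f.appLE V W e).hom).toAlgebra
  haveI : IsScalarTower Γ(S, V) Γ(X, W) Γ(X', W') := .of_algebraMap_eq fun _ => rfl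
  haveI : IsScalarTower Γ(S, V) Γ(S', V') Γ(X', W') := .of_algebraMap_eq' (by
      show ((f.appLE V W e) ≫ g'.appLE W _ inf_le_left).hom =
        ((g.appLE V V' e') ≫ f'.appLE V' _ inf_le_right).hom
      simp only [Scheme.Hom.appLE_comp_appLE, hc.w])
  haveI : Algebra.IsPushout Γ(S, V) Γ(S', V') Γ(X, W) Γ(X', W') := hpo
  haveI : Module.Flat Γ(S, V) Γ(S', V') :=
    HasRingHomProperty.appLE (P := @Flat) g ‹_› ⟨V, hV⟩ ⟨V', hV'⟩ e'
  have h := HasRingHomProperty.appLE (P := perfectMor) f hf ⟨V, hV⟩ ⟨W, hW⟩ e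
  exact ⟨pcHom_of_isPushout (R := Γ(S, V)) (R' := Γ(S', V')) (S := Γ(X, W)) (S' := Γ(X', W')) h.1,
    td_of_isPushout (R := Γ(S, V)) (R' := Γ(S', V')) (S := Γ(X, W)) (S' := Γ(X', W')) h.2⟩

theorem perf_codescendsAlong :
    RingHom.CodescendsAlong (fun {R S : Type u} [CommRing R] [CommRing S] (f : R →+* S) => PerfHom f)
      RingHom.FaithfullyFlat := by
  refine .mk _ perfHom_isLocal.respectsIso fun R S T _ _ _ _ _ h h' => ?_
  rw [RingHom.faithfullyFlat_algebraMap_iff] at h
  obtain ⟨h1, d, hd⟩ := h'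
  exact ⟨pcHom_of_baseChange (R' := S) h1, d, tdle_of_baseChange (R' := S) hd⟩

/-- Perfectness descends along flat surjective quasi-compact morphisms. -/
theorem isPerfectMor_descendsAlong :
    MorphismProperty.DescendsAlong perfectMor.{u} (@Surjective ⊓ @Flat ⊓ @QuasiCompact) := by
  apply IsZariskiLocalAtTarget.descendsAlong
  intro R X Y f g hf h
  wlog hX : ∃ T, X = Spec T generalizing X
  · have _ : CompactSpace X := by simpa [← quasiCompact_iff_compactSpace f] using hf.2
    obtain ⟨Y', p, hsurj, hp, hY⟩ := X.exists_hom_isAffine_of_isZariskiLocalAtSource @IsLocalIso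
    haveI hpf : Flat p := (IsLocalIso.le_of_isZariskiLocalAtSource @Flat) _ _ p hp
    refine this ((Y'.isoSpec.inv ≫ p) ≫ f) ?_ ?_ ⟨_, rfl⟩
    · haveI := hf.1.1
      haveI := hf.1.2
      haveI := hf.2
      exact ⟨⟨inferInstance, inferInstance⟩, inferInstance⟩
    · show perfectMor _
      rw [← pullbackRightPullbackFstIso_inv_fst f g _, perfectMor.cancel_left_of_respectsIso]
      haveI : Flat (Y'.isoSpec.inv ≫ p) := inferInstance
      exact isPerfectMor_of_flat_baseChange (IsPullback.of_hasPullback _ _).flip h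
  obtain ⟨T, rfl⟩ := hX
  obtain ⟨φ, rfl⟩ := Spec.map_surjective f
  wlog hY : ∃ S, Y = Spec S generalizing Y
  · rw [IsZariskiLocalAtSource.iff_of_openCover (P := perfectMor) Y.affineCover]
    intro i
    have heq : pullback.fst (Spec.map φ) (Y.affineCover.f i ≫ g) =
        pullback.map _ _ _ _ (𝟙 _) (Y.affineCover.f i) (𝟙 _) (by simp) (by simp) ≫
          pullback.fst (Spec.map φ) g := (pullback.lift_fst _ _ _).symm
    exact this _ (heq ▸ AlgebraicGeometry.IsZariskiLocalAtSource.comp h _) ⟨_, rfl⟩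
  obtain ⟨S, rfl⟩ := hY
  refine AlgebraicGeometry.of_pullback_fst_Spec_of_codescendsAlong perfectMor
    (@Surjective ⊓ @Flat ⊓ @QuasiCompact) perf_codescendsAlong ?_ ?_ hf h
  · intro R S f hf'
    rw [RingHom.FaithfullyFlat.iff_flat_and_comap_surjective]
    exact ⟨(HasRingHomProperty.Spec_iff (P := @Flat)).mp hf'.1.2, hf'.1.1.1⟩
  · intro R S f
    exact HasRingHomProperty.Spec_iff (P := perfectMor)

end Groth.Agent.PerfMorLib
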