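import Groth.Agent.PerfMorLib.TorHom
import Groth.Agent.PCHomLib.Basic
import Mathlib.RingTheory.PolynomialAlgebra

/-!
# Finite tor dimension and polynomial variables
-/

set_option autoImplicit false
set_option linter.style.haveILetI false
set_option backward.isDefEq.respectTransparency false

universe u

open CategoryTheory TensorProduct
attribute [local instance] HasDerivedCategory.standard

noncomputable section

namespace Groth.Agent.PerfMorLib

open Groth.Agent.DRingLib Groth.Agent.WEField

variable {A B : Type u} [CommRing A] [CommRing B]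

theorem td_of_bijective {f : A →+* B} (hf : Function.Bijective f) : TD f :=
  td_of_flat (RingHom.Flat.of_bijective hf)

/-- A quotient by a non-zero-divisor has tor dimension at most one. -/
theorem tdle_of_ker_eq_span {φ : A →+* B} (hφ : Function.Surjective φ) (t : A)
    (ht : ∀ x, t * x = 0 → x = 0) (hk : RingHom.ker φ = Ideal.span {t}) : TDLE 1 φ := by
  letI := φ.toAlgebra
  refine hasTorDimLE_congr (selfEquiv φ inferInstance rfl).symm
    (torDim_shift_up A A B (LinearMap.mul A A t) (Algebra.linearMap A B)
      (fun a b hab => sub_eq_zero.mp (ht _ (by simpa [mul_sub, sub_eq_zero] using hab))) hφ ?_ 0 ?_)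
  · intro y
    show φ y = 0 ↔ _
    rw [← RingHom.mem_ker, hk, Ideal.mem_span_singleton]
    exact ⟨fun ⟨c, hc⟩ => ⟨c, hc.symm⟩, fun ⟨c, hc⟩ => ⟨c, hc.symm⟩⟩
  · exact (hasTorDimLE_zero_iff A).mpr inferInstance

theorem td_evalRingHom (a : A) : TD (Polynomial.evalRingHom a) := by
  refine ⟨1, tdle_of_ker_eq_span (fun b => ⟨Polynomial.C b, Polynomial.eval_C⟩)
    (Polynomial.X - Polynomial.C a) (fun p hp => ?_) (Ideal.ext fun p => ?_)⟩
  · exact (Polynomial.monic_X_sub_C a).mul_right_eq_zero_iff.mp hp
  · rw [RingHom.mem_ker, Ideal.mem_span_singleton, Polynomial.dvd_iff_isRoot]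
    rfl

theorem td_of_isPushout {R R' S S' : Type u} [CommRing R] [CommRing R'] [CommRing S] [CommRing S']
    [Algebra R R'] [Algebra R S] [Algebra R' S'] [Algebra S S'] [Algebra R S'] [IsScalarTower R R' S']
    [IsScalarTower R S S'] [Algebra.IsPushout R R' S S'] [Module.Flat R R']
    (h : TD (algebraMap R S)) : TD (algebraMap R' S') := by
  obtain ⟨d, hd⟩ := h
  let e := Algebra.IsPushout.equiv R R' S S'
  have := (show TD (algebraMap R' (R' ⊗[R] S)) from ⟨d, tdle_baseChange hd⟩).comp
    (td_of_bijective (f := e.toRingEquiv.toRingHom) e.bijective)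
  rwa [show e.toRingEquiv.toRingHom.comp (algebraMap R' (R' ⊗[R] S)) = algebraMap R' S' from
    RingHom.ext fun r => e.commutes r] at this

attribute [local instance] Polynomial.algebra in
theorem td_mapRingHom {f : A →+* B} (h : TD f) : TD (Polynomial.mapRingHom f) := by
  letI := f.toAlgebra
  exact td_of_isPushout (R := A) (R' := Polynomial A) (S := B) (S' := Polynomial B) h

/-- Adding one variable to the base keeps finite tor dimension. -/
theorem td_polynomial {φ : Polynomial A →+* B} (h : TD (φ.comp Polynomial.C)) : TD φ := by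
  have := (td_mapRingHom h).comp (td_evalRingHom (φ Polynomial.X))
  rwa [show (Polynomial.evalRingHom (φ Polynomial.X)).comp
      (Polynomial.mapRingHom (φ.comp Polynomial.C)) = φ from Polynomial.ringHom_ext (fun a => by simp) (by simp)]
    at this

theorem td_mvPolynomial_fin : ∀ (n : ℕ) {φ : MvPolynomial (Fin n) A →+* B},
    TD (φ.comp MvPolynomial.C) → TD φ := by
  intro n
  induction n with
  | zero =>
    intro φ h
    let e := MvPolynomial.isEmptyAlgEquiv A (Fin 0)
    have := (td_of_bijective (f := e.toRingEquiv.toRingHom) e.bijective).comp h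
    rwa [show (φ.comp MvPolynomial.C).comp e.toRingEquiv.toRingHom = φ from
      MvPolynomial.ringHom_ext (fun a => congrArg (fun x => φ (MvPolynomial.C x)) (e.commutes a))
        fun i => i.elim0] at this
  | succ n ih =>
    intro φ h
    let e := MvPolynomial.finSuccEquiv A n
    let φ' : Polynomial (MvPolynomial (Fin n) A) →+* B := φ.comp e.symm.toRingEquiv.toRingHom
    have h' : TD (φ'.comp Polynomial.C) := ih (by
      rwa [show (φ'.comp Polynomial.C).comp MvPolynomial.C = φ.comp MvPolynomial.C from
        RingHom.ext fun a => congrArg φ (e.symm.commutes a)])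
    have := (td_of_bijective (f := e.toRingEquiv.toRingHom) e.bijective).comp (td_polynomial h')
    rwa [show φ'.comp e.toRingEquiv.toRingHom = φ from RingHom.ext fun p => by simp [φ']] at this

end Groth.Agent.PerfMorLib
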