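import Groth.Agent.PerfMorLib.Scheme
import Groth.Agent.PCHomLib.Flat
import Groth.Agent.DefSchLib.LCIRel
import Groth.Agent.DRingLib.TensorAmp

/-!
# Quotients by Koszul-regular sequences are perfect
-/

set_option autoImplicit false
set_option linter.style.haveILetI false
set_option backward.isDefEq.respectTransparency false

universe u

open CategoryTheory Limits Pretriangulated
attribute [local instance] HasDerivedCategory.standard

noncomputable section

namespace Groth.Agent.PerfMorLib

open Groth.Agent.DRingLib Groth.Agent.DCohLib Groth.Agent.PCHomLib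

variable {A : Type u} [CommRing A]

theorem pc_amp_koszul : ∀ l : List A,
    (∀ m, PC FFree m (DerivedCategory.Q.obj (Koszul.koszul A l))) ∧
      DRing.HasTorAmplitudeIn A (-(l.length : ℤ)) 0 (DerivedCategory.Q.obj (Koszul.koszul A l)) := by
  intro l
  induction l with
  | nil =>
    let e := singleQZeroIso (ModuleCat.of A A)
    refine ⟨fun m => ((perf_inD projClass_fFree (M := ModuleCat.of A A) ⟨inferInstance, inferInstance⟩).pc m).of_iso
      e.symm, amp_of_iso e.symm ?_⟩
    simpa using amp_inD_of_flat (ModuleCat.of A A) (inferInstanceAs (Module.Flat A A))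
  | cons f l ih =>
    have hD := DerivedCategory.mappingCone_triangle_distinguished (f • 𝟙 (Koszul.koszul A l))
    refine ⟨fun m => PC.obj₃ projClass_fFree _ hD (ih.1 (m + 1)) (ih.1 m), ?_⟩
    refine hasTorAmplitudeIn_mono le_rfl le_rfl
      (amp_obj₃ (a := -((l.length + 1 : ℕ) : ℤ)) (b := 0) _ hD ?_ ?_)
    · exact hasTorAmplitudeIn_mono (by push_cast; omega) (by omega) ih.2
    · exact hasTorAmplitudeIn_mono (by push_cast; omega) le_rfl ih.2

theorem nonempty_iso_inD_of_isKoszulRegular (l : List A) (hl : LCI.IsKoszulRegularSeq A l) :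
    Nonempty (DerivedCategory.Q.obj (Koszul.koszul A l) ≅ Dual.inD A (A ⧸ Ideal.ofList l)) := by
  let K := Koszul.koszul A l
  let X := DerivedCategory.Q.obj K
  have hz : ∀ i : ℤ, i ≠ 0 → IsZero ((DerivedCategory.homologyFunctor (ModuleCat.{u} A) i).obj X) :=
    fun i hi => (hl i hi).of_iso ((DerivedCategory.homologyFunctorFactors (ModuleCat.{u} A) i).app K)
  haveI : X.IsGE 0 := (DerivedCategory.isGE_iff X 0).2 fun i hi => hz i (by omega)
  haveI : X.IsLE 0 := (DerivedCategory.isLE_iff X 0).2 fun i hi => hz i (by omega)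
  obtain ⟨Y, ⟨eY⟩⟩ := DerivedCategory.exists_iso_singleFunctor_obj_of_isGE_of_isLE X 0
  let e₁ : Y ≅ K.homology 0 :=
    ((DerivedCategory.singleFunctorCompHomologyFunctorIso (ModuleCat.{u} A) 0).app Y).symm ≪≫
      (DerivedCategory.homologyFunctor (ModuleCat.{u} A) 0).mapIso eY.symm ≪≫
      (DerivedCategory.homologyFunctorFactors (ModuleCat.{u} A) 0).app K
  obtain ⟨C⟩ := DefSchLib.nonempty_kCoord l
  let S := K.sc' (-1) 0 1
  haveI : Subsingleton (K.X 1 : Type u) := ModuleCat.subsingleton_of_isZero (C.isZero 1 one_pos)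
  let θ : LinearMap.ker S.g.hom →ₗ[A] A ⧸ Ideal.ofList l :=
    (Submodule.mkQ (Ideal.ofList l)).comp (C.a.comp (LinearMap.ker S.g.hom).subtype)
  have hθ : Function.Surjective θ := fun y => by
    obtain ⟨r, rfl⟩ := Submodule.mkQ_surjective _ y
    obtain ⟨x, rfl⟩ := C.a_bij.2 r
    exact ⟨⟨x, Subsingleton.elim (α := (K.X 1 : Type u)) _ _⟩, rfl⟩
  have hk : LinearMap.range S.moduleCatToCycles = LinearMap.ker θ := by
    have hI : (LinearMap.range (Finsupp.linearCombination A l.get) : Submodule A A) =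
        (Ideal.ofList l : Submodule A A) := by
      rw [Finsupp.range_linearCombination, Ideal.ofList, Ideal.span]
      congr 1
      ext x
      simp [List.mem_iff_get]
    ext z
    rw [LinearMap.mem_ker]
    show _ ↔ Submodule.mkQ (Ideal.ofList l) (C.a z.1) = 0
    rw [Submodule.mkQ_apply, Submodule.Quotient.mk_eq_zero, ← hI]
    constructor
    · rintro ⟨w, rfl⟩
      exact ⟨C.b w, (C.a_d w).symm⟩
    · rintro ⟨q, hq⟩
      obtain ⟨w, rfl⟩ := C.b_bij.2 q
      exact ⟨w, Subtype.ext (C.a_bij.1 ((C.a_d w).trans hq))⟩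
  let e₂ : K.homology 0 ≅ ModuleCat.of A (A ⧸ Ideal.ofList l) :=
    K.homologyIsoSc' (-1) 0 1 (by simp) (by simp) ≪≫ S.moduleCatLeftHomologyData.homologyIso ≪≫
      (((Submodule.quotEquivOfEq _ _ hk).trans (θ.quotKerEquivOfSurjective hθ)).toModuleIso)
  exact ⟨eY ≪≫ (DerivedCategory.singleFunctor (ModuleCat.{u} A) 0).mapIso (e₁ ≪≫ e₂)⟩

variable {B : Type u} [CommRing B]

theorem perfHom_of_isKoszulRegular {φ : A →+* B} (hφ : Function.Surjective φ) (l : List A)
    (hl : LCI.IsKoszulRegularSeq A l) (hk : RingHom.ker φ = Ideal.ofList l) : PerfHom φ := by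
  letI := φ.toAlgebra
  let θ : (A ⧸ Ideal.ofList l) ≃ₗ[A] B :=
    (Submodule.quotEquivOfEq _ _ (by rw [← hk]; rfl)).trans
      ((Algebra.linearMap A B).quotKerEquivOfSurjective hφ)
  obtain ⟨e⟩ := nonempty_iso_inD_of_isKoszulRegular l hl
  let e' := e ≪≫ (DerivedCategory.singleFunctor (ModuleCat.{u} A) 0).mapIso θ.toModuleIso
  refine ⟨(pcHom_iff_pcMap_of_surjective φ hφ).mpr ?_, l.length, ?_⟩
  · exact pcMap_algebraMap_iff.mpr ((isPseudoCoherent'_iff _).mpr fun m => ((pc_amp_koszul l).1 m).of_iso e')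
  · exact hasTorDimLE_congr (selfEquiv φ inferInstance rfl).symm
      ((hasTorDimLE_iff_amp _ _).mpr (amp_of_iso e' (pc_amp_koszul l).2))

theorem perfHom_of_subsingleton [Subsingleton B] (f : A →+* B) : PerfHom f :=
  ⟨pcHom_of_subsingleton f, td_of_flat (by
    letI := f.toAlgebra
    exact (inferInstance : Module.Flat A B))⟩

/-- A quotient by a Koszul-regular ideal is perfect. -/
theorem perfHom_of_isKoszulRegularIdeal {φ : A →+* B} (hφ : Function.Surjective φ)
    (h : LCI.IsKoszulRegularIdeal (RingHom.ker φ)) : PerfHom φ := by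
  let s : Set B := {b | PerfHom ((algebraMap B (Localization.Away b)).comp φ)}
  refine perfHom_ofLocalizationSpanTarget φ s (by_contra fun hne => ?_) fun b => b.2
  obtain ⟨Q, hQ, hsQ⟩ := Ideal.exists_le_maximal _ hne
  haveI := hQ.isPrime
  obtain ⟨g, hg, l, hl, hI⟩ := h ⟨Q.comap φ, inferInstance⟩ (fun x hx => by
    simp [Ideal.mem_comap, RingHom.mem_ker.mp hx])
  refine hg (hsQ (Ideal.subset_span ?_))
  show PerfHom _
  let ψ := IsLocalization.Away.map (Localization.Away g) (Localization.Away (φ g)) φ g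
  have hψ : Function.Surjective ψ := fun y => by
    obtain ⟨b, ⟨_, n, rfl⟩, rfl⟩ := IsLocalization.exists_mk'_eq (Submonoid.powers (φ g)) y
    obtain ⟨a, rfl⟩ := hφ b
    refine ⟨IsLocalization.mk' _ a (⟨g ^ n, n, rfl⟩ : Submonoid.powers g), ?_⟩
    simp only [ψ, IsLocalization.Away.map, IsLocalization.map_mk', map_pow]
  have hk : RingHom.ker ψ = Ideal.ofList l := by
    show RingHom.ker (IsLocalization.map (Localization.Away (φ g)) φ _) = _
    rw [IsLocalization.ker_map (T := Submonoid.powers (φ g)) (Localization.Away (φ g)) φ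
      (Submonoid.map_powers _ _), hI]
  rw [show (algebraMap B (Localization.Away (φ g))).comp φ =
    ψ.comp (algebraMap A (Localization.Away g)) from (IsLocalization.map_comp _).symm]
  exact (perfHom_away g).comp (perfHom_of_isKoszulRegular hψ l hl hk)

theorem perfHom_of_isLCI [Algebra A B] (h : LCI.IsLCI A B) : PerfHom (algebraMap A B) := by
  obtain ⟨-, n, φ, hφ, hk⟩ := h
  rw [← φ.comp_algebraMap]
  have hC : PerfHom (algebraMap A (MvPolynomial (Fin n) A)) :=
    ⟨pcHom_of_flat (A := A) (B := MvPolynomial (Fin n) A),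
      td_of_flat (RingHom.flat_algebraMap_iff.mpr inferInstance)⟩
  exact hC.comp (perfHom_of_isKoszulRegularIdeal hφ hk)

theorem finitePresentation_of_pcHom {f : A →+* B} (h : PCHom f) : f.FinitePresentation := by
  obtain ⟨n, φ, hφ, hc, hp⟩ := h
  letI := f.toAlgebra
  let φ' : MvPolynomial (Fin n) A →ₐ[A] B := { φ with commutes' := fun a => RingHom.congr_fun hc a }
  letI := φ.toAlgebra
  have hfp : Module.FinitePresentation (MvPolynomial (Fin n) A) B :=
    (pc_negOne_iff B).mp ((isPseudoCoherent'_iff _).mp (pcMap_algebraMap_iff.mp hp) (-1))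
  refine Algebra.FinitePresentation.of_surjective (R := A) (f := φ') hφ ?_
  exact Module.FinitePresentation.fg_ker (Algebra.linearMap (MvPolynomial (Fin n) A) B) hφ

end Groth.Agent.PerfMorLib
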