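import Groth.Agent.PerfMorLib.Scheme
import Groth.Prelude.Def_Mor2
import Groth.Agent.PCHomLib.Flat
import Groth.Agent.DRingLib.WeaklyEtaleAmp
import Mathlib.AlgebraicGeometry.Morphisms.ClosedImmersion
import Mathlib.AlgebraicGeometry.Morphisms.Smooth
import Mathlib.RingTheory.Regular.RegularSequence
import Mathlib.RingTheory.Etale.Weakly

/-!
# Regular immersions are perfect; cancellation along smooth morphisms
-/

set_option autoImplicit false
set_option linter.style.haveILetI false
set_option backward.isDefEq.respectTransparency false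

universe u

open CategoryTheory Limits AlgebraicGeometry RingTheory.Sequence
attribute [local instance] HasDerivedCategory.standard

noncomputable section

namespace Groth.Agent.PerfMorLib

open Groth.Agent.DRingLib Groth.Agent.PCHomLib Groth.Agent.DTenLib

theorem perfHom_of_ker_eq_span {A B : Type u} [CommRing A] [CommRing B] {φ : A →+* B}
    (hφ : Function.Surjective φ) (t : A) (ht : ∀ x, t * x = 0 → x = 0)
    (hk : RingHom.ker φ = Ideal.span {t}) : PerfHom φ :=
  ⟨(pcHom_iff_pcMap_of_surjective φ hφ).mpr (pcMap_of_ker_eq_span φ hφ t ht hk),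
    1, tdle_of_ker_eq_span hφ t ht hk⟩

/-- A quotient by a weakly regular sequence is perfect. -/
theorem perfHom_of_isWeaklyRegular {B : Type u} [CommRing B] :
    ∀ (n : ℕ) {A : Type u} [CommRing A] (φ : A →+* B) (rs : List A), rs.length = n →
      Function.Surjective φ → IsWeaklyRegular A rs → RingHom.ker φ = Ideal.ofList rs → PerfHom φ := by
  intro n
  induction n with
  | zero =>
    intro A _ φ rs hl hφ _ hk
    rw [List.length_eq_zero_iff.mp hl, Ideal.ofList_nil] at hk
    exact perfHom_of_bijective ⟨(RingHom.injective_iff_ker_eq_bot φ).mpr hk, hφ⟩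
  | succ n ih =>
    intro A _ φ rs hl hφ hw hk
    obtain ⟨r, rs, rfl⟩ : ∃ r t, rs = r :: t := List.exists_cons_of_length_eq_add_one hl
    obtain ⟨hr, hw'⟩ := (isWeaklyRegular_cons_iff' A r rs).mp hw
    rw [Ideal.ofList_cons] at hk
    let π := Ideal.Quotient.mk (Ideal.span {r})
    have hπ : Function.Surjective π := Ideal.Quotient.mk_surjective
    let φ' : A ⧸ Ideal.span {r} →+* B := Ideal.Quotient.lift _ φ fun a ha => by
      rw [← RingHom.mem_ker, hk]
      exact Ideal.mem_sup_left ha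
    have h1 : PerfHom π := perfHom_of_ker_eq_span hπ r
      (fun x hx => hr (by simpa using hx)) Ideal.mk_ker
    have h2 : PerfHom φ' := by
      refine ih φ' (rs.map π) (by simpa using hl) (fun b => ?_) ?_ ?_
      · obtain ⟨a, rfl⟩ := hφ b
        exact ⟨π a, rfl⟩
      · let e : QuotSMulTop r A ≃+ A ⧸ Ideal.span {r} := (Submodule.quotEquivOfEq _ _ (by
          rw [← Submodule.ideal_span_singleton_smul, Ideal.smul_eq_mul, Ideal.mul_top])).toAddEquiv
        refine (e.isWeaklyRegular_congr ?_).mp hw'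
        refine List.forall₂_same.mpr fun s _ x => ?_
        obtain ⟨a, rfl⟩ := Ideal.Quotient.mk_surjective s
        obtain ⟨y, rfl⟩ := Submodule.mkQ_surjective _ x
        rfl
      · rw [Ideal.ker_quotient_lift, hk, Ideal.map_sup, Ideal.map_ofList, Ideal.map_quotient_self, bot_sup_eq]
    exact h1.comp h2

theorem isPerfectMor_of_isRegularClosedImmersion {Z X : Scheme.{u}} (i : Z ⟶ X)
    (hi : Mor2.IsRegularClosedImmersion i) : MoreMor.IsPerfectMor i := by
  haveI := hi.1
  rw [isPerfectMor_iff_exists]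
  intro z
  obtain ⟨U, hU, hzU, rs, hrs, hker⟩ := hi.2 z
  refine ⟨⟨U, hU⟩, ⟨i ⁻¹ᵁ U, hU.preimage i⟩, hzU, le_rfl, ?_⟩
  rw [Scheme.Hom.appLE_eq_app]
  refine perfHom_of_isWeaklyRegular _ _ rs rfl (i.app_surjective U hU) hrs.toIsWeaklyRegular ?_
  rw [← hker, Scheme.Hom.ker_apply]

/-- Cancellation of a standard smooth map. -/
theorem perfHom_of_comp_standardSmooth {A B C : Type u} [CommRing A] [CommRing B] [CommRing C]
    (f : A →+* B) (g : B →+* C) (hf : f.IsStandardSmooth) (h : PerfHom (g.comp f)) : PerfHom g := by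
  obtain ⟨n, e, he, het⟩ := hf.exists_etale_mvPolynomial
  have hpc : PCHom f := by
    letI := f.toAlgebra
    haveI : Algebra.IsStandardSmooth A B := hf
    exact pcHom_of_flat (A := A) (B := B)
  refine ⟨hpc.of_comp h.1, ?_⟩
  have h2 : TD (g.comp e) := td_mvPolynomial_fin n (by rw [RingHom.comp_assoc, he]; exact h.2)
  obtain ⟨d, hd⟩ := h2
  letI := e.toAlgebra
  haveI : Algebra.Etale (MvPolynomial (Fin n) A) B := het
  refine ⟨d, (hasTorDimLE_iff_amp _ _).mpr ((amp_iff_of_weaklyEtale (A := MvPolynomial (Fin n) A) (B := B) _ _ _).mp ?_)⟩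
  obtain ⟨i⟩ := nonempty_restrictD_inD e (ModuleCat.of B (baseMod g))
  exact amp_of_iso (i ≪≫ (DerivedCategory.singleFunctor _ 0).mapIso (restrictBaseMod e g)).symm
    ((hasTorDimLE_iff_amp d (baseMod (g.comp e))).mp hd)

theorem isPerfectMor_of_comp_smooth {X Y S : Scheme.{u}} (f : X ⟶ Y) (g : Y ⟶ S) [Smooth g]
    (h : MoreMor.IsPerfectMor (f ≫ g)) : MoreMor.IsPerfectMor f := by
  rw [isPerfectMor_iff_exists]
  intro x
  obtain ⟨W, hW, V, hV, hxV, hVW, hsm⟩ := (Smooth.iff_forall_exists_isStandardSmooth g).mp ‹_› (f x)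
  obtain ⟨_, ⟨U : X.Opens, (hU : IsAffineOpen U), rfl⟩, hxU, hUV⟩ :=
    X.isBasis_affineOpens.exists_subset_of_mem_open (a := x) (u := ↑(f ⁻¹ᵁ V)) hxV (f ⁻¹ᵁ V).2
  refine ⟨⟨V, hV⟩, ⟨U, hU⟩, hxU, hUV, perfHom_of_comp_standardSmooth _ _ hsm ?_⟩
  rw [← CommRingCat.hom_comp, Scheme.Hom.appLE_comp_appLE]
  exact (HasRingHomProperty.iff_appLE (P := perfectMor)).mp h ⟨W, hW⟩ ⟨U, hU⟩ _

end Groth.Agent.PerfMorLib
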