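import Groth.Agent.DRingLib.Misc
import Groth.Agent.DRingLib.FFDescent
import Groth.Agent.DRingLib.PCMap

/-!
# Ring maps of finite tor dimension
-/

set_option autoImplicit false
set_option linter.style.haveILetI false
set_option backward.isDefEq.respectTransparency false

universe u

open CategoryTheory Limits MonoidalCategory TensorProduct
attribute [local instance] HasDerivedCategory.standard

noncomputable section

namespace Groth.Agent.PerfMorLib

open Groth.Agent.DRingLib Groth.Agent.DCohLib Groth.Agent.DTenLib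

variable {A B C : Type u} [CommRing A] [CommRing B] [CommRing C]

/-- The ring map has tor dimension at most `d`. -/
def TDLE (d : ℕ) (φ : A →+* B) : Prop := DRing.HasTorDimLE A d (baseMod φ)

/-- The ring map has finite tor dimension. -/
def TD (φ : A →+* B) : Prop := ∃ d, TDLE d φ

theorem tdle_mono {φ : A →+* B} {d e : ℕ} (hde : d ≤ e) (h : TDLE d φ) : TDLE e φ :=
  fun N _ _ p hp => h N p (by omega)

theorem hasTorDimLE_congr {M M' : Type u} [AddCommGroup M] [Module A M] [AddCommGroup M'] [Module A M']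
    (l : M ≃ₗ[A] M') {d : ℕ} (h : DRing.HasTorDimLE A d M) : DRing.HasTorDimLE A d M' := by
  rw [hasTorDimLE_iff_amp] at h ⊢
  exact amp_of_iso ((DerivedCategory.singleFunctor (ModuleCat.{u} A) 0).mapIso l.toModuleIso) h

theorem hasFiniteTorDim_iff [Algebra A B] :
    DRing.HasFiniteTorDim A B ↔ TD (algebraMap A B) := by
  let l := selfEquiv (algebraMap A B) inferInstance rfl
  exact ⟨fun ⟨d, hd⟩ => ⟨d, hasTorDimLE_congr l.symm hd⟩, fun ⟨d, hd⟩ => ⟨d, hasTorDimLE_congr l hd⟩⟩

/-- Composites of rings as modules. -/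
def restrictBaseMod (φ : A →+* B) (ψ : B →+* C) :
    (ModuleCat.restrictScalars.{u} φ).obj (baseMod ψ) ≅ baseMod (ψ.comp φ) :=
  LinearEquiv.toModuleIso (X₁ := (ModuleCat.restrictScalars.{u} φ).obj (baseMod ψ))
    (X₂ := baseMod (ψ.comp φ))
    { AddEquiv.refl C with map_smul' := fun _ _ => rfl }

theorem TD.comp {φ : A →+* B} {ψ : B →+* C} (h₁ : TD φ) (h₂ : TD ψ) : TD (ψ.comp φ) := by
  obtain ⟨d, hd⟩ := h₁
  obtain ⟨e, he⟩ := h₂
  refine ⟨d + e, ?_⟩
  rw [TDLE, hasTorDimLE_iff_amp] at hd he ⊢
  have h := amp_restrictD φ hd he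
  obtain ⟨i⟩ := nonempty_restrictD_inD φ (ModuleCat.of B (baseMod ψ))
  exact hasTorAmplitudeIn_mono (by push_cast; omega) le_rfl (amp_of_iso
    (i ≪≫ (DerivedCategory.singleFunctor (ModuleCat.{u} A) 0).mapIso (restrictBaseMod φ ψ)) h)

theorem tdle_zero_of_flat {φ : A →+* B} (h : φ.Flat) : TDLE 0 φ := by
  letI := φ.toAlgebra
  haveI : Module.Flat A B := h
  rw [TDLE, hasTorDimLE_zero_iff]
  exact Module.Flat.of_linearEquiv (selfEquiv φ inferInstance rfl)

theorem td_of_flat {φ : A →+* B} (h : φ.Flat) : TD φ := ⟨0, tdle_zero_of_flat h⟩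

/-- A short complex is exact if it is so after a flat jointly faithful family of base changes. -/
theorem exact_of_ffFamily {ι : Type} {Bk : ι → Type u} [∀ k, CommRing (Bk k)] {ψ : ∀ k, B →+* Bk k}
    (hB : FFFamily Bk ψ) (S : ShortComplex (ModuleCat.{u} B))
    (h : ∀ k, (S.map (tensorLeft (baseMod (ψ k)))).Exact) : S.Exact := by
  rw [ShortComplex.exact_iff_isZero_homology]
  refine hB.zero _ fun k => ?_
  haveI := preservesHomology_tensorLeft_of_flat (baseMod (ψ k)) (hB.flat k)
  exact ((ShortComplex.exact_iff_isZero_homology _).1 (h k)).of_iso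
    (S.mapHomologyIso (tensorLeft (baseMod (ψ k)))).symm

/-- Tor dimension is local on the target. -/
theorem tdle_of_ffFamily {ι : Type} {Bk : ι → Type u} [∀ k, CommRing (Bk k)] {ψ : ∀ k, B →+* Bk k}
    (hB : FFFamily Bk ψ) (φ : A →+* B) {d : ℕ} (h : ∀ k, TDLE d ((ψ k).comp φ)) : TDLE d φ := by
  intro N _ _ p hp
  let P := projectiveResolution (ModuleCat.of A N)
  let S := P.complex.sc p
  suffices hS : (S.map (tensorLeft (baseMod φ))).Exact by
    exact ModuleCat.subsingleton_of_isZero (((HomologicalComplex.exactAt_iff_isZero_homology _ _).1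
      ((HomologicalComplex.exactAt_iff
        (((tensorLeft (baseMod φ)).mapHomologicalComplex _).obj P.complex) p).2 hS)).of_iso
        (TorLib.torIso P (baseMod φ) p))
  refine (ShortComplex.exact_iff_of_iso (S.mapNatIso (extResIso φ))).1
    (((exact_of_ffFamily hB (S.map (ModuleCat.extendScalars.{u, u, u} φ)) fun k => ?_)).map
      (ModuleCat.restrictScalars.{u} φ))
  have h0 : Subsingleton (DRing.Tor A p ((ModuleCat.restrictScalars.{u} φ).obj (baseMod (ψ k))) N) :=
    hasTorDimLE_congr (restrictBaseMod φ (ψ k)).symm.toLinearEquiv (h k) N p hp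
  have h1 : ((tensorLeft ((ModuleCat.restrictScalars.{u} φ).obj (baseMod (ψ k)))).mapHomologicalComplex _
      |>.obj P.complex).ExactAt p :=
    (HomologicalComplex.exactAt_iff_isZero_homology _ _).2
      ((ModuleCat.isZero_iff_subsingleton.2 h0).of_iso
        (TorLib.torIso P ((ModuleCat.restrictScalars.{u} φ).obj (baseMod (ψ k))) p).symm)
  rw [HomologicalComplex.exactAt_iff] at h1
  show ((S.map (ModuleCat.extendScalars.{u, u, u} φ)).map (tensorLeft (baseMod (ψ k)))).Exact
  haveI : ((S.map (ModuleCat.extendScalars.{u, u, u} φ)).map (tensorLeft (baseMod (ψ k)))).HasHomology :=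
    CategoryWithHomology.hasHomology _
  refine (ShortComplex.exact_map_iff_of_faithful _ (ModuleCat.restrictScalars.{u} φ)).1 ?_
  let τ : (ModuleCat.extendScalars.{u, u, u} φ ⋙ tensorLeft (baseMod (ψ k))) ⋙
      ModuleCat.restrictScalars.{u} φ ≅
      tensorLeft ((ModuleCat.restrictScalars.{u} φ).obj (baseMod (ψ k))) :=
    (cancelBiIso φ).app (baseMod (ψ k))
  exact ShortComplex.exact_of_iso (S.mapNatIso τ).symm h1

theorem td_ofLocalizationSpanTarget :
    RingHom.OfLocalizationSpanTarget (fun {R S : Type u} [CommRing R] [CommRing S] (f : R →+* S) => TD f) := by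
  intro R S _ _ f s hs h
  obtain ⟨t, hts, ht⟩ := (Ideal.span_eq_top_iff_finite s).mp hs
  let e := (Finset.equivFin t).symm
  choose d hd using fun k => h ⟨(e k).1, hts (e k).2⟩
  refine ⟨Finset.univ.sup d, tdle_of_ffFamily (ffFamily_away (fun k => ((e k).1 : S)) ?_) f
    fun k => tdle_mono (Finset.le_sup (Finset.mem_univ k)) (hd k)⟩
  rw [← top_le_iff, ← ht]
  exact Ideal.span_mono fun x hx => ⟨e.symm ⟨x, hx⟩, by simp⟩

theorem tdle_baseChange {R R' S : Type u} [CommRing R] [CommRing R'] [CommRing S] [Algebra R R']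
    [Algebra R S] [Module.Flat R R'] {d : ℕ} (h : TDLE d (algebraMap R S)) :
    TDLE d (algebraMap R' (R' ⊗[R] S)) := by
  haveI := hasLBaseChange (algebraMap R R')
  have h' := (hasTorDimLE_iff_amp _ _).1 (hasTorDimLE_congr (selfEquiv (algebraMap R S) inferInstance rfl) h)
  refine hasTorDimLE_congr (selfEquiv (algebraMap R' (R' ⊗[R] S)) inferInstance rfl).symm
    ((hasTorDimLE_iff_amp _ _).2 (amp_of_iso ?_ (hasTorAmplitudeIn_lbc (φ := algebraMap R R') h')))
  exact lbcInDIso (algebraMap R R') (flat_baseMod R R') (ModuleCat.of R S) ≪≫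
    (DerivedCategory.singleFunctor (ModuleCat.{u} R') 0).mapIso
      (LinearEquiv.toModuleIso (extendScalarsTensorEquiv R R' S))

theorem tdle_of_baseChange {R R' S : Type u} [CommRing R] [CommRing R'] [CommRing S] [Algebra R R']
    [Algebra R S] [Module.FaithfullyFlat R R'] {d : ℕ} (h : TDLE d (algebraMap R' (R' ⊗[R] S))) :
    TDLE d (algebraMap R S) := by
  haveI := hasLBaseChange (algebraMap R R')
  haveI : ∀ _ : Unit, DRing.HasLBaseChange (algebraMap R R') := fun _ => inferInstance
  have h' := (hasTorDimLE_iff_amp _ _).1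
    (hasTorDimLE_congr (selfEquiv (algebraMap R' (R' ⊗[R] S)) inferInstance rfl) h)
  refine hasTorDimLE_congr (selfEquiv (algebraMap R S) inferInstance rfl).symm
    ((hasTorDimLE_iff_amp _ _).2 ((ffFamily_single (A := R) (B := R')).amp _ fun _ => amp_of_iso ?_ h'))
  exact (DerivedCategory.singleFunctor (ModuleCat.{u} R') 0).mapIso
      (LinearEquiv.toModuleIso (extendScalarsTensorEquiv R R' S)).symm ≪≫
    (lbcInDIso (algebraMap R R') (flat_baseMod R R') (ModuleCat.of R S)).symm

end Groth.Agent.PerfMorLib
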