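import Groth.Agent.PerfMorLib.Spread
import Groth.Agent.PerfMorLib.Scheme

/-!
# Perfect morphisms and the tor dimension of stalks
-/

set_option autoImplicit false
set_option linter.style.haveILetI false
set_option backward.isDefEq.respectTransparency false

universe u

open CategoryTheory AlgebraicGeometry
attribute [local instance] HasDerivedCategory.standard

noncomputable section

namespace Groth.Agent.PerfMorLib

open Groth.Agent.DRingLib Groth.Agent.PCHomLib

theorem td_respectsIso :
    RingHom.RespectsIso (fun {R S : Type u} [CommRing R] [CommRing S] (f : R →+* S) => TD f) :=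
  ⟨fun _ e hf => hf.comp (td_of_bijective e.bijective), fun _ e hf => (td_of_bijective e.bijective).comp hf⟩

theorem td_localRingHom_iff {A B : Type u} [CommRing A] [CommRing B] (f : A →+* B) (p : Ideal A)
    [p.IsPrime] (Q : Ideal B) [Q.IsPrime] (hpQ : p = Q.comap f) :
    TD (Localization.localRingHom p Q f hpQ) ↔ TD ((algebraMap B (Localization.AtPrime Q)).comp f) := by
  let ψ := Localization.localRingHom p Q f hpQ
  have hψ : ψ.comp (algebraMap A (Localization.AtPrime p)) =
      (algebraMap B (Localization.AtPrime Q)).comp f :=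
    RingHom.ext fun x => Localization.localRingHom_to_map p Q f hpQ x
  haveI : Module.Flat A (Localization.AtPrime p) := IsLocalization.flat _ p.primeCompl
  constructor
  · intro h
    rw [← hψ]
    exact (td_of_flat ((RingHom.flat_algebraMap_iff).mpr ‹_›)).comp h
  · intro h
    letI algψ := ψ.toAlgebra
    letI : Algebra A (Localization.AtPrime Q) := ((algebraMap B (Localization.AtPrime Q)).comp f).toAlgebra
    haveI : IsScalarTower A (Localization.AtPrime p) (Localization.AtPrime Q) :=
      .of_algebraMap_eq fun x => (RingHom.congr_fun hψ x).symm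
    have hle : Algebra.algebraMapSubmonoid (Localization.AtPrime Q) p.primeCompl ≤
        IsUnit.submonoid (Localization.AtPrime Q) := by
      rintro _ ⟨x, hx, rfl⟩
      exact IsLocalization.map_units (Localization.AtPrime Q)
        (⟨f x, fun hfx => hx (by rw [hpQ]; exact hfx)⟩ : Q.primeCompl)
    haveI : IsLocalization (Algebra.algebraMapSubmonoid (Localization.AtPrime Q) p.primeCompl)
        (Localization.AtPrime Q) := IsLocalization.self hle
    haveI : Algebra.IsPushout A (Localization.AtPrime p) (Localization.AtPrime Q) (Localization.AtPrime Q) :=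
      (Algebra.isPushout_of_isLocalization p.primeCompl (Localization.AtPrime p) (Localization.AtPrime Q) _).symm
    exact td_of_isPushout (R := A) (R' := Localization.AtPrime p) (S := Localization.AtPrime Q)
      (S' := Localization.AtPrime Q) h

theorem td_stalkMap_iff {X S : Scheme.{u}} (f : X ⟶ S) {V : S.Opens} (hV : IsAffineOpen V) {U : X.Opens}
    (hU : IsAffineOpen U) (e : U ≤ f ⁻¹ᵁ V) {x : X} (hx : x ∈ U) :
    TD (f.stalkMap x).hom ↔ TD ((algebraMap Γ(X, U) (Localization.AtPrime (hU.primeIdealOf ⟨x, hx⟩).asIdeal)).comp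
      (f.appLE V U e).hom) := by
  haveI := RingHom.toMorphismProperty_respectsIso_iff.mp td_respectsIso.{u}
  rw [show TD (f.stalkMap x).hom ↔ _ from (RingHom.toMorphismProperty fun f => TD f).arrow_mk_iso_iff
    (IsAffineOpen.arrowStalkMapIso f V hV U hU e hx)]
  exact td_localRingHom_iff _ _ _ (congrArg PrimeSpectrum.asIdeal (IsAffineOpen.comap_primeIdealOf_appLE V hV U hU e hx)).symm

theorem isPerfectMor_iff_stalks {X S : Scheme.{u}} (f : X ⟶ S) (hf : MoreMor.IsPseudoCoherentMor f) :
    MoreMor.IsPerfectMor f ↔ ∀ x : X, TD (f.stalkMap x).hom := by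
  have hpc := (HasRingHomProperty.iff_appLE
    (P := fun {X Y : Scheme.{u}} (f : X ⟶ Y) => MoreMor.IsPseudoCoherentMor f) (f := f)).mp hf
  constructor
  · intro h x
    obtain ⟨V, U, hx, e, hp⟩ := (isPerfectMor_iff_exists f).mp h x
    rw [td_stalkMap_iff f V.2 U.2 e hx]
    haveI : Module.Flat Γ(X, U.1) (Localization.AtPrime (U.2.primeIdealOf ⟨x, hx⟩).asIdeal) :=
      IsLocalization.flat _ (U.2.primeIdealOf ⟨x, hx⟩).asIdeal.primeCompl
    exact hp.2.comp (td_of_flat ((RingHom.flat_algebraMap_iff).mpr inferInstance))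
  · intro h
    refine (HasRingHomProperty.iff_appLE (P := perfectMor)).mpr fun V U e => ⟨hpc V U e, ?_⟩
    obtain ⟨n, φ, hφ, hc, hp⟩ := hpc V U e
    rw [← hc]
    refine td_of_localized φ hφ hp fun Q hQ => ?_
    rw [hc]
    let y : PrimeSpectrum Γ(X, U.1) := ⟨Q, hQ⟩
    have hy : U.2.fromSpec y ∈ U.1 := by
      have := U.2.range_fromSpec.le ⟨y, rfl⟩
      exact this
    have hpt : U.2.primeIdealOf ⟨U.2.fromSpec y, hy⟩ = y :=
      U.2.fromSpec.isOpenEmbedding.injective (U.2.fromSpec_primeIdealOf _)
    have h' := (td_stalkMap_iff f V.2 U.2 e hy).mp (h _)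
    have key : ∀ z : PrimeSpectrum Γ(X, U.1), z = y →
        TD ((algebraMap Γ(X, U.1) (Localization.AtPrime z.asIdeal)).comp (f.appLE V U e).hom) →
        TD ((algebraMap Γ(X, U.1) (Localization.AtPrime Q)).comp (f.appLE V U e).hom) := by
      rintro z rfl hz
      exact hz
    exact key _ hpt h'

end Groth.Agent.PerfMorLib
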