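import Groth.Agent.PerfMorLib.Stalk
import Groth.Agent.RegLocal.GlobalDim
import Groth.Agent.DRingLib.TensorAmp
import Groth.Agent.S14413
import Mathlib.AlgebraicGeometry.Noetherian

/-!
# Morphisms of finite type to regular schemes are perfect
-/

set_option autoImplicit false
set_option linter.style.haveILetI false
set_option backward.isDefEq.respectTransparency false

universe u

open CategoryTheory AlgebraicGeometry
attribute [local instance] HasDerivedCategory.standard

noncomputable section

namespace Groth.Agent.PerfMorLib

open Groth.Agent.DRingLib Groth.Agent.PCHomLib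

theorem pcHom_of_finiteType_noetherian {A B : Type u} [CommRing A] [CommRing B] [IsNoetherianRing A]
    (f : A →+* B) (hf : f.FiniteType) : PCHom f := by
  letI := f.toAlgebra
  obtain ⟨n, φ, hφ⟩ := Algebra.FiniteType.iff_quotient_mvPolynomial''.mp (hf : Algebra.FiniteType A B)
  refine ⟨n, φ.toRingHom, hφ, φ.comp_algebraMap, ?_⟩
  letI := φ.toRingHom.toAlgebra
  haveI : Module.Finite (MvPolynomial (Fin n) A) B :=
    Module.Finite.of_surjective (Algebra.linearMap (MvPolynomial (Fin n) A) B) hφ
  refine pcMap_algebraMap_iff.mpr ((isPseudoCoherent'_iff _).mpr fun m => ?_)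
  exact (pc_inD_of_finite (-m).toNat B).mono (by omega)

theorem td_of_isRegularLocalRing {A B : Type u} [CommRing A] [CommRing B] [IsRegularLocalRing A]
    (f : A →+* B) : TD f := by
  let d := (IsLocalRing.maximalIdeal A).spanFinrank
  have hd : ringKrullDim A = d := (IsRegularLocalRing.spanFinrank_maximalIdeal (R := A)).symm
  obtain ⟨P, hP⟩ := (Groth.Agent.S14413.result A (DTenLib.baseMod f) d).1
    (RegLocal.hasProjectiveDimensionLT A d hd _)
  exact ⟨d, (hasTorDimLE_iff_amp _ _).mpr (amp_inD_of_projectiveDimension P hP)⟩

theorem isPerfectMor_of_regular {X S : Scheme.{u}} (f : X ⟶ S) [LocallyOfFiniteType f]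
    [IsLocallyNoetherian S] (hreg : ∀ s : S, IsRegularLocalRing (S.presheaf.stalk s)) :
    MoreMor.IsPerfectMor f := by
  have hpc : MoreMor.IsPseudoCoherentMor f := by
    refine (HasRingHomProperty.iff_appLE
      (P := fun {X Y : Scheme.{u}} (f : X ⟶ Y) => MoreMor.IsPseudoCoherentMor f) (f := f)).mpr
      fun V U e => ?_
    haveI := IsLocallyNoetherian.component_noetherian V
    exact pcHom_of_finiteType_noetherian _ (HasRingHomProperty.appLE (P := @LocallyOfFiniteType) f ‹_› V U e)
  exact (isPerfectMor_iff_stalks f hpc).mpr fun x => haveI := hreg (f x); td_of_isRegularLocalRing _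

end Groth.Agent.PerfMorLib
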