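import Groth.Agent.PerfMorLib.Koszul
import Groth.Prelude.Def_RegImm

/-!
# Koszul morphisms are perfect
-/

set_option autoImplicit false
set_option linter.style.haveILetI false
set_option backward.isDefEq.respectTransparency false

universe u

open CategoryTheory AlgebraicGeometry
attribute [local instance] HasDerivedCategory.standard

noncomputable section

namespace Groth.Agent.PerfMorLib

theorem surjective_app_of_restrict {X Y : Scheme.{u}} (f : X ⟶ Y) (U : Y.Opens)
    (h : Function.Surjective (f ∣_ U).appTop) : Function.Surjective (f.app U) := by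
  rw [morphismRestrict_appTop] at h
  have key : ∀ W : Y.Opens, W = U → Function.Surjective (f.app W) → Function.Surjective (f.app U) := by
    rintro W rfl hW
    exact hW
  refine key _ (U.ι_image_top) fun y => ?_
  obtain ⟨z, hz⟩ := h ((X.presheaf.map (eqToHom (image_morphismRestrict_preimage f U ⊤)).op) y)
  exact ⟨z, (ConcreteCategory.bijective_of_isIso
    (X.presheaf.map (eqToHom (image_morphismRestrict_preimage f U ⊤)).op)).1 hz⟩

theorem isPerfectMor_of_isRegularImmersion_koszul {Z X : Scheme.{u}} (i : Z ⟶ X)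
    (hi : RegImm.IsRegularImmersion .koszul i) : MoreMor.IsPerfectMor i := by
  rw [isPerfectMor_iff_exists]
  intro z
  obtain ⟨U, hzU, hcl, rs, hrs, hker⟩ := hi.2 z
  haveI : IsAffine U.1 := U.2
  obtain ⟨haff, hsurj⟩ := IsClosedImmersion.isAffine_surjective_of_isAffine (i ∣_ U.1)
  refine ⟨U, ⟨i ⁻¹ᵁ U.1, haff⟩, hzU, le_rfl, ?_⟩
  rw [Scheme.Hom.appLE_eq_app]
  exact perfHom_of_isKoszulRegular (surjective_app_of_restrict i U.1 hsurj) rs hrs hker

theorem isPerfectMor_of_forall_isKoszulAt {X Y : Scheme.{u}} (f : X ⟶ Y)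
    (hf : ∀ x : X, Synt.IsKoszulAt f x) : MoreMor.IsPerfectMor f := by
  rw [isPerfectMor_iff_exists]
  intro x
  obtain ⟨U, P, i, π, hx, -, hi, hπ, hfac⟩ := hf x
  have hπ' : MoreMor.IsPerfectMor π := by
    haveI := hπ
    refine (HasRingHomProperty.iff_appLE (P := perfectMor)).mpr fun V W e => ?_
    letI := (π.appLE V W e).hom.toAlgebra
    haveI : Module.Flat Γ(Y, V) Γ(P, W) := Flat.flat_appLE π V.2 W.2 e
    haveI : Algebra.FinitePresentation Γ(Y, V) Γ(P, W) := π.finitePresentation_appLE V.2 W.2 e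
    exact ⟨PCHomLib.pcHom_of_flat, td_of_flat (RingHom.flat_algebraMap_iff.mpr ‹_›)⟩
  have h : perfectMor (U.ι ≫ f) := hfac ▸ isPerfectMor_comp (isPerfectMor_of_isRegularImmersion_koszul i hi) hπ'
  obtain ⟨V, W, hxW, e, hp⟩ := (isPerfectMor_iff_exists _).mp h ⟨x, hx⟩
  refine ⟨V, ⟨U.ι ''ᵁ W.1, W.2.image_of_isOpenImmersion _⟩, ⟨⟨x, hx⟩, hxW, rfl⟩,
    (U.ι.image_mono e).trans (by rw [Scheme.Hom.comp_preimage, Scheme.Hom.image_preimage_eq_opensRange_inf]; exact inf_le_right), ?_⟩
  rw [Scheme.Hom.comp_appLE, Scheme.Opens.ι_appLE] at hp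
  simp only [Scheme.Hom.appLE]
  exact hp

end Groth.Agent.PerfMorLib
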