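import Groth.Agent.PerfMorLib.Poly
import Mathlib.RingTheory.Localization.Free
import Mathlib.RingTheory.Flat.Localization

/-!
# Tor dimension spreads out for pseudo-coherent modules
-/

set_option autoImplicit false
set_option linter.style.haveILetI false
set_option backward.isDefEq.respectTransparency false

universe u

open CategoryTheory
attribute [local instance] HasDerivedCategory.standard

noncomputable section

namespace Groth.Agent.PerfMorLib

open Groth.Agent.DRingLib Groth.Agent.DCohLib Groth.Agent.WEField

theorem flat_localizedModule {P : Type u} [CommRing P] (S : Submonoid P) (M : Type u)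
    [AddCommGroup M] [Module P M] [Module.Flat P M] : Module.Flat P (LocalizedModule S M) :=
  (Module.flat_iff_of_isLocalization (Localization S) S (M := LocalizedModule S M)).mp
    (Module.Flat.of_isLocalizedModule (Localization S) S (LocalizedModule.mkLinearMap S M))

/-- For a pseudo-coherent module, tor dimension at a prime spreads to a neighbourhood. -/
theorem exists_tdle_powers {P : Type u} [CommRing P] (q : Ideal P) [q.IsPrime] :
    ∀ (d : ℕ) (M : Type u) [AddCommGroup M] [Module P M], (∀ m, PC FFree m (Dual.inD P M)) →
      DRing.HasTorDimLE P d (LocalizedModule q.primeCompl M) →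
      ∃ g ∉ q, DRing.HasTorDimLE P d (LocalizedModule (Submonoid.powers g) M) := by
  intro d
  induction d with
  | zero =>
    intro M _ _ hM h
    haveI := (pc_negOne_iff M).mp (hM _)
    haveI : Module.Flat (Localization q.primeCompl) (LocalizedModule q.primeCompl M) :=
      (Module.flat_iff_of_isLocalization (Localization q.primeCompl) q.primeCompl _).mpr
        ((hasTorDimLE_zero_iff _).mp h)
    haveI : IsLocalRing (Localization q.primeCompl) := inferInstanceAs (IsLocalRing (Localization.AtPrime q))
    haveI : Module.Finite (Localization q.primeCompl) (LocalizedModule q.primeCompl M) :=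
      Module.Finite.of_isLocalizedModule q.primeCompl (LocalizedModule.mkLinearMap q.primeCompl M)
    haveI : Module.Free (Localization q.primeCompl) (LocalizedModule q.primeCompl M) :=
      Module.free_of_flat_of_isLocalRing
    obtain ⟨g, hg, hfree, -⟩ := Module.FinitePresentation.exists_free_localizedModule_powers
      q.primeCompl (LocalizedModule.mkLinearMap q.primeCompl M) (Localization q.primeCompl)
    refine ⟨g, hg, (hasTorDimLE_zero_iff _).mpr ?_⟩
    haveI := hfree
    exact (Module.flat_iff_of_isLocalization (Localization (Submonoid.powers g)) (Submonoid.powers g) _).mp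
      inferInstance
  | succ d ih =>
    intro M _ _ hM h
    haveI : Module.Finite P M := finite_of_pc_zero (M := ModuleCat.of P M) (hM 0)
    obtain ⟨r, p, hp⟩ := Module.Finite.exists_fin' P M
    let K := LinearMap.ker p
    have hK : ∀ m, PC FFree m (Dual.inD P K) := fun m => by
      obtain ⟨T, hT, h1, h2, h3⟩ := exists_triangle_of_surjective p hp
      rw [← h1]
      refine PC.obj₁ projClass_fFree T hT (m := m - 1) ?_ (by rw [h3]; exact hM _) |>.mono (by omega)
      rw [h2]
      exact (perf_inD_fin r).pc _
    have key : ∀ S : Submonoid P,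
        (DRing.HasTorDimLE P (d + 1) (LocalizedModule S M) →
          DRing.HasTorDimLE P d (LocalizedModule S K)) ∧
        (DRing.HasTorDimLE P d (LocalizedModule S K) →
          DRing.HasTorDimLE P (d + 1) (LocalizedModule S M)) := by
      intro S
      haveI := flat_localizedModule S (Fin r → P)
      let k := LocalizedModule.mkLinearMap S K
      let l := LocalizedModule.mkLinearMap S (Fin r → P)
      let n := LocalizedModule.mkLinearMap S M
      exact ⟨torDim_shift_down _ _ _ (IsLocalizedModule.map S k l K.subtype) (IsLocalizedModule.map S l n p)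
          (IsLocalizedModule.map_injective S k l _ Subtype.val_injective)
          (IsLocalizedModule.map_surjective S l n _ hp)
          (IsLocalizedModule.map_exact S k l n _ _ (LinearMap.exact_subtype_ker_map _)) d,
        torDim_shift_up _ _ _ (IsLocalizedModule.map S k l K.subtype) (IsLocalizedModule.map S l n p)
          (IsLocalizedModule.map_injective S k l _ Subtype.val_injective)
          (IsLocalizedModule.map_surjective S l n _ hp)
          (IsLocalizedModule.map_exact S k l n _ _ (LinearMap.exact_subtype_ker_map _)) d⟩
    obtain ⟨g, hg, hg'⟩ := ih K hK ((key _).1 h)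
    exact ⟨g, hg, (key _).2 hg'⟩

/-- A pseudo-coherent quotient whose local rings have finite tor dimension over `A`. -/
theorem td_of_localized {A B : Type u} [CommRing A] [CommRing B] {n : ℕ}
    (φ : MvPolynomial (Fin n) A →+* B) (hφ : Function.Surjective φ) (hpc : PCMap φ)
    (h : ∀ Q : Ideal B, [Q.IsPrime] →
      TD ((algebraMap B (Localization.AtPrime Q)).comp (φ.comp MvPolynomial.C))) :
    TD (φ.comp MvPolynomial.C) := by
  letI := φ.toAlgebra
  have hM : ∀ m, PC FFree m (Dual.inD (MvPolynomial (Fin n) A) B) :=
    fun m => (isPseudoCoherent'_iff _).mp (pcMap_algebraMap_iff.mp hpc) m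
  let s : Set B := {b | TD ((algebraMap B (Localization.Away b)).comp (φ.comp MvPolynomial.C))}
  refine td_ofLocalizationSpanTarget _ s (by_contra fun hne => ?_) fun b => b.2
  obtain ⟨Q, hQ, hsQ⟩ := Ideal.exists_le_maximal _ hne
  haveI := hQ.isPrime
  let q : Ideal (MvPolynomial (Fin n) A) := Q.comap φ
  obtain ⟨d, hd⟩ : TD ((algebraMap B (Localization.AtPrime Q)).comp φ) :=
    td_mvPolynomial_fin n (by rw [RingHom.comp_assoc]; exact h Q)
  have hS : Algebra.algebraMapSubmonoid B q.primeCompl = Q.primeCompl := by
    ext b
    refine ⟨?_, fun hb => ?_⟩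
    · rintro ⟨x, hx, rfl⟩
      exact hx
    · obtain ⟨x, rfl⟩ := hφ b
      exact ⟨x, hb, rfl⟩
  haveI : IsLocalization (Algebra.algebraMapSubmonoid B q.primeCompl) (Localization.AtPrime Q) := by
    rw [hS]
    infer_instance
  haveI : IsScalarTower (MvPolynomial (Fin n) A) B (Localization.AtPrime Q) := inferInstance
  haveI : IsLocalizedModule q.primeCompl
      (IsScalarTower.toAlgHom (MvPolynomial (Fin n) A) B (Localization.AtPrime Q)).toLinearMap :=
    isLocalizedModule_iff_isLocalization.mpr inferInstance
  let l := IsLocalizedModule.iso q.primeCompl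
    (IsScalarTower.toAlgHom (MvPolynomial (Fin n) A) B (Localization.AtPrime Q)).toLinearMap
  let l₀ := selfEquiv ((algebraMap B (Localization.AtPrime Q)).comp φ) (inferInstance :
      Algebra (MvPolynomial (Fin n) A) (Localization.AtPrime Q))
    (IsScalarTower.algebraMap_eq (MvPolynomial (Fin n) A) B (Localization.AtPrime Q))
  obtain ⟨g, hg, hg'⟩ := exists_tdle_powers q d B hM (hasTorDimLE_congr (l₀.trans l.symm) hd)
  refine hg (hsQ (Ideal.subset_span ?_))
  show TD _
  haveI : IsLocalization (Algebra.algebraMapSubmonoid B (Submonoid.powers g)) (Localization.Away (φ g)) := by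
    rw [Algebra.algebraMapSubmonoid_powers]
    exact inferInstanceAs (IsLocalization.Away (φ g) _)
  haveI : IsLocalizedModule (Submonoid.powers g)
      (IsScalarTower.toAlgHom (MvPolynomial (Fin n) A) B (Localization.Away (φ g))).toLinearMap :=
    isLocalizedModule_iff_isLocalization.mpr inferInstance
  let l' := IsLocalizedModule.iso (Submonoid.powers g)
    (IsScalarTower.toAlgHom (MvPolynomial (Fin n) A) B (Localization.Away (φ g))).toLinearMap
  let l₁ := selfEquiv ((algebraMap B (Localization.Away (φ g))).comp φ) (inferInstance :
      Algebra (MvPolynomial (Fin n) A) (Localization.Away (φ g)))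
    (IsScalarTower.algebraMap_eq (MvPolynomial (Fin n) A) B (Localization.Away (φ g)))
  have h1 : TD ((algebraMap B (Localization.Away (φ g))).comp φ) :=
    ⟨d, hasTorDimLE_congr (l'.trans l₁.symm) hg'⟩
  have h2 : TD (MvPolynomial.C : A →+* MvPolynomial (Fin n) A) :=
    td_of_flat ((RingHom.flat_algebraMap_iff (R := A) (S := MvPolynomial (Fin n) A)).mpr inferInstance)
  rw [← RingHom.comp_assoc]
  exact h2.comp h1

end Groth.Agent.PerfMorLib
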